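import Cfsg.Agent.Symplectic.HermSubPar
import Cfsg.Agent.Symplectic.HermSubGen
import Cfsg.Agent.H58.SUSmall.SubfieldPar

/-!
Subfield structures in dimension four: parameters generate the whole group.
-/

set_option autoImplicit false

namespace Cfsg.Agent.Symplectic

open scoped MatrixGroups Matrix
open Matrix Cfsg.Agent.H95

variable {ι : Type} [Fintype ι] [DecidableEq ι] {F : Type*} [Field F]
  {σ : F ≃+* F} {f : (ι → F) → (ι → F) → F} {F₀ : Subfield F} {V : AddSubgroup (ι → F)}
  {M : Subgroup (GL ι F)}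

namespace HSub

variable (H : HSub σ f F₀ V) (hO : H.Over M)
include H hO

theorem exists_trans_four (hn : 4 ≤ Fintype.card ι) {v w : ι → F} (hv : H.Iso0 v) (hw : H.Iso0 w) :
    ∃ g ∈ M, (g : Matrix ι ι F) *ᵥ w = v := by
  have hf := H.herm
  obtain ⟨e, he, hee, -, we⟩ := H.partner hw.1 hw.2.1 hw.2.2
  obtain ⟨e₂, he₂, hee₂, hev₂, ve₂⟩ : ∃ e₂ ∈ V, f e₂ e₂ = 0 ∧ (∀ t : F, e₂ ≠ t • e) ∧
      f v e₂ = 1 := by
    obtain ⟨d, hd, dd, dv', vd⟩ := H.partner hv.1 hv.2.1 hv.2.2
    by_cases h : ∀ t : F, d ≠ t • e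
    · exact ⟨d, hd, dd, h, vd⟩
    push Not at h
    obtain ⟨t, ht⟩ := h
    obtain ⟨s, hs, hs0, hss⟩ := H.skew
    refine ⟨d + s • v, V.add_mem hd (H.smul s hs v hv.1), ?_, fun t' ht' => ?_,
      by rw [u_add_right hf, u_smul_right hf, vd, hv.2.2]; ring⟩
    · simp only [u_add_left hf, u_add_right hf, u_smul_left hf, u_smul_right hf, dd, hv.2.2, dv',
        vd, hss]
      ring
    · have h1 : s • v = (t' - t) • e := by rw [sub_smul, ← ht', ← ht]; abel
      have h2 : v = (s⁻¹ * (t' - t)) • e := by rw [mul_smul, ← h1, inv_smul_smul₀ hs0]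
      have h3 : f v d = 0 := by
        rw [h2, ht, u_smul_left hf, u_smul_right hf, hee]; ring
      rw [vd] at h3
      exact one_ne_zero h3
  obtain ⟨z, hz, hzz, ze, ze₂⟩ : ∃ z ∈ V, f z z = 0 ∧ f z e = 1 ∧ f z e₂ = 1 := by
    by_cases h : f e₂ e = 0
    · have dual : ∀ a b : ι → F, a ∈ V → b ∈ V → f b b = 0 → (∀ t : F, a ≠ t • b) →
          b ≠ 0 → ∃ z ∈ V, f z b = 0 ∧ f z a = 1 := by
        intro a b ha hb hbb hab hb0
        obtain ⟨d, hd, -, db, -⟩ := H.partner hb hb0 hbb
        have hne : a - σ (f d a) • b ≠ 0 := fun e => hab _ (sub_eq_zero.1 e)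
        obtain ⟨y, hy, hya⟩ := H.exists_ne hne
        set y' := y - f y b • d with hy'
        have y'V : y' ∈ V := V.sub_mem hy (H.smul _ (H.rat y hy b hb) d hd)
        have hy'b : f y' b = 0 := by rw [hy', u_sub_left hf, u_smul_left hf, db]; ring
        have hy'a : f y' a ≠ 0 := by
          rw [u_sub_right hf, u_smul_right hf, u_inv hf] at hya
          rw [hy', u_sub_left hf, u_smul_left hf, mul_comm]
          exact hya
        exact ⟨(f y' a)⁻¹ • y', H.smul _ (F₀.inv_mem (H.rat _ y'V a ha)) _ y'V,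
          by rw [u_smul_left hf, hy'b, mul_zero],
          by rw [u_smul_left hf, inv_mul_cancel₀ hy'a]⟩
      have he0 : e ≠ 0 := fun h0 => by rw [h0, u_zero_right hf] at we; exact zero_ne_one we
      have he₂0 : e₂ ≠ 0 := fun h0 => by rw [h0, u_zero_right hf] at ve₂; exact zero_ne_one ve₂
      obtain ⟨z₂, hz₂, a1, a2⟩ := dual e₂ e he₂ he hee hev₂ he0
      obtain ⟨z₁, hz₁, b1, b2⟩ := dual e e₂ he he₂ hee₂ (fun t ht => by
        rcases eq_or_ne t 0 with rfl | ht0
        · exact he0 (by rw [ht, zero_smul])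
        · exact hev₂ t⁻¹ (by rw [ht, inv_smul_smul₀ ht0])) he₂0
      set z₀ := z₁ + z₂ with hz₀
      have c1 : f z₀ e = 1 := by rw [hz₀, u_add_left hf, b2, a1, add_zero]
      have c2 : f z₀ e₂ = 1 := by rw [hz₀, u_add_left hf, b1, a2, zero_add]
      have c3 : f e z₀ = 1 := by rw [← u_conj hf, c1, map_one]
      have z₀V : z₀ ∈ V := V.add_mem hz₁ hz₂
      obtain ⟨t, ht, ht1⟩ := H.trace_rat (F₀.neg_mem (H.rat z₀ z₀V z₀ z₀V)) (H.neg_self_fix z₀)
      clear_value z₀
      refine ⟨z₀ + t • e, V.add_mem z₀V (H.smul t ht e he), ?_, ?_, ?_⟩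
      · simp only [u_add_left hf, u_add_right hf, u_smul_left hf, u_smul_right hf, hee, c1, c3]
        linear_combination ht1
      · rw [u_add_left hf, u_smul_left hf, hee, c1]; ring
      · rw [u_add_left hf, u_smul_left hf, u_symm_zero hf h, c2]; ring
    · have h' : f e e₂ ≠ 0 := fun h0 => h (u_symm_zero hf h0)
      have hd : (f e₂ e)⁻¹ • e₂ ∈ V := H.smul _ (F₀.inv_mem (H.rat _ he₂ _ he)) _ he₂
      have hP := H.isProj_pair he hd hee
        (by rw [u_smul_left hf, u_smul_right hf, hee₂]; ring)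
        (by rw [u_smul_left hf, inv_mul_cancel₀ h])
      obtain ⟨x, hx, Px, hxx⟩ := hP.exists_aniso H (by omega)
      obtain ⟨xe, xd⟩ := H.projPair_perp LinearMap.id hee
        (d := (f e₂ e)⁻¹ • e₂) (by rw [u_smul_left hf, u_smul_right hf, hee₂]; ring)
        (by rw [u_smul_left hf, inv_mul_cancel₀ h]) x
      rw [Px] at xe xd
      have xe₂ : f x e₂ = 0 := by
        rw [u_smul_right hf, mul_eq_zero] at xd
        exact xd.resolve_left fun h0 => inv_ne_zero h ((map_eq_zero_iff σ σ.injective).1 h0)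
      set z₀ := (f e e₂)⁻¹ • e + (f e₂ e)⁻¹ • e₂ with hz₀
      have z₀V : z₀ ∈ V :=
        V.add_mem (H.smul _ (F₀.inv_mem (H.rat e he e₂ he₂)) e he) hd
      have hr : σ (-f z₀ z₀ / f x x) = -f z₀ z₀ / f x x := by
        rw [map_div₀, H.neg_self_fix, u_conj hf]
      obtain ⟨c, hc, hc1⟩ := H.norm _
        (F₀.div_mem (F₀.neg_mem (H.rat z₀ z₀V z₀ z₀V)) (H.rat x hx x hx)) hr
      have c1 : f z₀ e = 1 := by
        rw [hz₀, u_add_left hf, u_smul_left hf, u_smul_left hf, hee, mul_zero, zero_add,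
          inv_mul_cancel₀ h]
      have c2 : f z₀ e₂ = 1 := by
        rw [hz₀, u_add_left hf, u_smul_left hf, u_smul_left hf, hee₂, mul_zero, add_zero,
          inv_mul_cancel₀ h']
      have c3 : f z₀ x = 0 := by
        rw [hz₀, u_add_left hf, u_smul_left hf, u_smul_left hf, u_symm_zero hf xe,
          u_symm_zero hf xe₂]; ring
      clear_value z₀
      refine ⟨z₀ + c • x, V.add_mem z₀V (H.smul c hc x hx), ?_,
        by rw [u_add_left hf, u_smul_left hf, xe, c1]; ring,
        by rw [u_add_left hf, u_smul_left hf, xe₂, c2]; ring⟩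
      simp only [u_add_left hf, u_add_right hf, u_smul_left hf, u_smul_right hf, c3,
        u_symm_zero hf c3, mul_zero, add_zero, zero_add]
      rw [← mul_assoc, hc1, div_mul_cancel₀ _ hxx, add_neg_cancel]
  obtain ⟨g1, g1M, e1⟩ := H.exists_move hO hw.1 hz he hw.2.2 hzz hee we ze
  obtain ⟨g2, g2M, e2⟩ := H.exists_move hO hz hv.1 he₂ hzz hv.2.2 hee₂ ze₂ ve₂
  exact ⟨g2 * g1, M.mul_mem g2M g1M, by rw [mul_mulVec, e1, e2]⟩

theorem par_of_one_four (hn : 4 ≤ Fintype.card ι) {w : ι → F} (hw : H.Iso0 w) {a : F}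
    (ha : σ a = -a) (h : ut H.herm w a ∈ M) : H.Par M a := by
  refine ⟨ha, fun v hv hvv => ?_⟩
  rcases eq_or_ne v 0 with rfl | hv0
  · convert M.one_mem
    exact gl_ext fun x => by rw [ut_mulVec H.herm hvv]; simp
  obtain ⟨g, gM, rfl⟩ := H.exists_trans_four hO hn ⟨hv, hv0, hvv⟩ hw
  rw [← conj_ut H.herm (H.iso_of_mem hO gM) hw.2.2]
  exact M.mul_mem (M.mul_mem gM h) (M.inv_mem gM)

/-- A rational vector orthogonal to a moved one gives new parameters. -/
theorem par_of_orth_four (hn : 4 ≤ Fintype.card ι) {h : GL ι F} (hh : h ∈ M) {v u e : ι → F}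
    (hv : H.Iso0 v) (hu : H.Iso0 u) (hwu : f ((h : Matrix ι ι F) *ᵥ v) u = 0) (he : e ∈ V)
    (hee : f e e = 0) (heu : f e u = 0) {a : F} (ha : H.Par M a) :
    H.Par M (a * (f ((h : Matrix ι ι F) *ᵥ v) e * σ (f ((h : Matrix ι ι F) *ᵥ v) e))) := by
  have hf := H.herm
  have hhi := H.iso_of_mem hO hh
  set w := (h : Matrix ι ι F) *ᵥ v with hw
  have hww : f w w = 0 := by rw [hw, mem_isoGrp.1 hhi, hv.2.2]
  have hX : ut hf w a ∈ M := by
    rw [hw, ← conj_ut hf hhi hv.2.2]
    exact M.mul_mem (M.mul_mem hh (ha.2 v hv.1 hv.2.2)) (M.inv_mem hh)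
  set β := f w e with hβ
  have hOI : OrthIso hf e u := ⟨hee, hu.2.2, heu⟩
  have hWU : OrthIso hf w u := ⟨hww, hu.2.2, hwu⟩
  have E : ∀ c ∈ F₀, ut hf u (a * (c * β * σ (c * β))) * uh hf w u (a * (c * β)) ∈ M := by
    intro c hc
    have h1 := M.mul_mem (M.inv_mem hX) (M.mul_mem (M.mul_mem (H.uh_rat hO he hu.1 hc) hX)
      (M.inv_mem (H.uh_rat hO he hu.1 hc)))
    have ew : (uh hf e u c : Matrix ι ι F) *ᵥ w = w + (c * β) • u := by
      rw [uh_mulVec hf hOI, hwu, ← hβ, mul_zero, zero_smul, sub_zero]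
    rw [conj_ut hf (uh_mem_iso hf e u c) hww, ew, ut_inv hf hww] at h1
    convert h1 using 1
    have hww' : f (w + (c * β) • u) (w + (c * β) • u) = 0 := by
      simp only [u_add_left hf, u_add_right hf, u_smul_left hf, u_smul_right hf, hww, hu.2.2, hwu,
        u_symm_zero hf hwu]
      ring
    refine gl_ext fun x => ?_
    simp only [mul_mulVec, ut_mulVec hf hww, ut_mulVec hf hu.2.2, ut_mulVec hf hww',
      uh_mulVec hf hWU, u_add_left hf, u_add_right hf, u_sub_left hf, u_smul_left hf,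
      u_smul_right hf, hww, hu.2.2, hwu, u_symm_zero hf hwu, map_mul, ha.1]
    module
  obtain ⟨l, hl, hl1⟩ := H.tr
  have hβskew : σ (a * (β * σ β)) = -(a * (β * σ β)) := by
    rw [map_mul, map_mul, u_inv hf, ha.1]; ring
  refine H.par_of_one_four hO hn hu hβskew ?_
  have h1 := M.mul_mem (E (l + 1) (F₀.add_mem hl F₀.one_mem))
    (M.inv_mem (M.mul_mem (E l hl) (E 1 F₀.one_mem)))
  simp only [_root_.mul_inv_rev, ut_inv hf hu.2.2, uh_inv hf hWU] at h1
  convert h1 using 1
  refine gl_ext fun x => ?_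
  simp only [mul_mulVec, ut_mulVec hf hu.2.2, uh_mulVec hf hWU, u_add_left hf, u_sub_left hf,
    u_smul_left hf, hww, hu.2.2, hwu, u_symm_zero hf hwu, map_mul, map_add, map_neg, map_one, ha.1]
  match_scalars <;>
    first
    | ring1
    | linear_combination (a * f x u * β * σ β) * hl1
    | linear_combination -(a * f x u * β * σ β) * hl1

/-- Elements preserving the rational points stabilise the rational space up to a scalar. -/
theorem exists_scalar_four (hn : 4 ≤ Fintype.card ι) {g : GL ι F} (hg : g ∈ M)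
    (hr : ∀ v, H.Iso0 v → H.RatPt ((g : Matrix ι ι F) *ᵥ v)) :
    ∃ c : F, c ≠ 0 ∧ ∀ v ∈ V, c • ((g : Matrix ι ι F) *ᵥ v) ∈ V := by
  have hf := H.herm
  have hgi := H.iso_of_mem hO hg
  obtain ⟨v₀, hv₀, -⟩ := H.isProj_id.exists_iso H (by omega)
  obtain ⟨c₀, hc₀, hc₀v⟩ := hr v₀ hv₀
  refine ⟨c₀, hc₀, fun y hy => ?_⟩
  let D : AddSubgroup (ι → F) :=
    { carrier := {y | c₀ • ((g : Matrix ι ι F) *ᵥ y) ∈ V}
      add_mem' := fun {p q} hp hq => by
        show _ • (_ *ᵥ (p + q)) ∈ V
        rw [mulVec_add, smul_add]; exact V.add_mem hp hq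
      zero_mem' := by
        show _ • (_ *ᵥ (0 : ι → F)) ∈ V
        rw [mulVec_zero, smul_zero]; exact V.zero_mem
      neg_mem' := fun {p} hp => by
        show _ • (_ *ᵥ (-p)) ∈ V
        rw [mulVec_neg, smul_neg]; exact V.neg_mem hp }
  refine H.gen_near hv₀ D (fun c hc => ?_) (fun v hv hne => ?_) hy
  · show _ • (_ *ᵥ (c • v₀)) ∈ V
    rw [mulVec_smul, smul_comm]
    exact H.smul c hc _ hc₀v
  obtain ⟨c, hc, hcv⟩ := hr v hv
  have hne' : f v₀ v ≠ 0 := fun h => hne (u_symm_zero hf h)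
  obtain ⟨s, hs, hs0, hss⟩ := H.skew
  set t := σ (s / f v₀ v) with ht
  have htF : t ∈ F₀ := H.stable _ (F₀.div_mem hs (H.rat v₀ hv₀.1 v hv.1))
  have ht0 : t ≠ 0 := fun h => div_ne_zero hs0 hne' ((map_eq_zero_iff σ σ.injective).1 h)
  have hts : σ t * f v₀ v = s := by rw [ht, u_inv hf, div_mul_cancel₀ _ hne']
  set v₃ := v₀ + t • v with hv₃
  have h3v : f v₃ v = f v₀ v := by rw [hv₃, u_add_left hf, u_smul_left hf, hv.2.2]; ring
  have hv₃i : H.Iso0 v₃ := by
    refine ⟨V.add_mem hv₀.1 (H.smul t htF v hv.1), fun h0 => hne' ?_, ?_⟩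
    · rw [← h3v, h0, u_zero_left hf]
    · have h1 := congrArg σ hts
      rw [map_mul, u_inv hf, u_conj hf, hss] at h1
      simp only [hv₃, u_add_left hf, u_add_right hf, u_smul_left hf, u_smul_right hf, hv.2.2,
        hv₀.2.2]
      linear_combination hts + h1
  obtain ⟨c₃, hc₃, hc₃v⟩ := hr v₃ hv₃i
  have r1 := F₀.div_mem (H.rat _ hc₃v _ hcv) (H.rat _ hc₀v _ hcv)
  have r2 := F₀.div_mem (F₀.div_mem (H.rat _ hc₃v _ hc₀v) (H.rat _ hcv _ hc₀v)) htF
  simp only [u_smul_left hf, u_smul_right hf, mem_isoGrp.1 hgi] at r1 r2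
  simp only [hv₃, u_add_left hf, u_smul_left hf, hv.2.2, hv₀.2.2, mul_zero, add_zero,
    zero_add] at r1 r2
  have hσc : σ c ≠ 0 := fun h => hc ((map_eq_zero_iff σ σ.injective).1 h)
  have hσc₀ : σ c₀ ≠ 0 := fun h => hc₀ ((map_eq_zero_iff σ σ.injective).1 h)
  have hv0' : f v v₀ ≠ 0 := hne
  have key : c₀ / c ∈ F₀ := by
    have := F₀.div_mem r2 r1
    convert this using 1
    field_simp
  have := H.smul _ key _ hcv
  rwa [smul_smul, div_mul_cancel₀ _ hc] at this

theorem par_mul_four (hn : 4 ≤ Fintype.card ι) {s : F} (hs : s ∈ F₀) (hss : σ s = -s) {a b : F}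
    (ha : H.Par M a) (hb : H.Par M b) : H.Par M (a * b / s) := by
  have hf := H.herm
  obtain ⟨e, he, -⟩ := H.isProj_id.exists_iso H (by omega)
  obtain ⟨w, d, hw, hd, we, de, dw⟩ := H.exists_indep he (by omega)
  have wd : f w d = 1 := by rw [← u_conj hf, dw, map_one]
  obtain ⟨l, hl, hl1⟩ := H.tr
  have hde : ∀ t : F, d ≠ t • e := H.not_line (v := w) (by rw [dw]; exact one_ne_zero)
    (u_symm_zero hf we)
  have hDE : OrthIso hf d e := ⟨hd.2.2, he.2.2, de⟩
  have hWE : OrthIso hf w e := ⟨hw.2.2, he.2.2, we⟩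
  set c := b * (l / s) with hc
  have hcM : uh hf d e c ∈ M := H.uh_par hO hd he de hde hb (F₀.div_mem hl hs)
  have h1M : uh hf d e 1 ∈ M := H.uh_rat hO hd.1 he.1 F₀.one_mem
  have hc1 : uh hf d e (c + 1) ∈ M := by rw [← uh_add hf hDE]; exact M.mul_mem hcM h1M
  have E := fun {k : F} (hk : uh hf d e k ∈ M) =>
    H.conj_mixed hO ha hw.1 hw.2.2 hDE hWE wd hk
  have hσc : c + σ c = b / s := by
    rw [hc, map_mul, map_div₀, hb.1, hss]
    linear_combination (b / s) * hl1
  refine H.par_of_one_four hO hn he (by rw [map_div₀, map_mul, ha.1, hb.1, hss]; ring) ?_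
  have h2 := M.mul_mem (E hc1) (M.inv_mem (M.mul_mem (E hcM) (E h1M)))
  simp only [_root_.mul_inv_rev, ut_inv hf he.2.2, uh_inv hf hWE] at h2
  convert h2 using 1
  rw [mul_div_assoc, ← hσc]
  clear_value c
  refine gl_ext fun x => ?_
  simp only [mul_mulVec, ut_mulVec hf he.2.2, uh_mulVec hf hWE, u_add_left hf, u_sub_left hf,
    u_smul_left hf, hw.2.2, he.2.2, we, u_symm_zero hf we, map_mul, map_add, map_neg, map_one,
    ha.1]
  module

/-- One new parameter gives all skew elements. -/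
theorem par_all_four [Finite F] (hn : 4 ≤ Fintype.card ι) {a : F} (ha : H.Par M a) (haF : a ∉ F₀)
    {b : F} (hb : σ b = -b) : H.Par M b := by
  have hf := H.herm
  letI := Fintype.ofFinite F
  obtain ⟨s, hs, hs0, hss⟩ := H.skew
  obtain ⟨θ, hθ, hθσ⟩ := H.exists_theta
  obtain ⟨l, hl, hl1⟩ := H.tr
  let C : Set F := {x | ∀ e ∈ F₀, H.Par M (s * (e * x + σ (e * x)))}
  have rfixed : ∀ e ∈ F₀, e + σ e ∈ F₀ ∧ σ (e + σ e) = e + σ e := fun e he =>
    ⟨F₀.add_mem he (H.stable e he), by rw [map_add, u_inv hf]; ring⟩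
  have base : ∀ x ∈ F₀, x ∈ C := fun x hx e he => by
    obtain ⟨h1, h2⟩ := rfixed _ (F₀.mul_mem he hx)
    exact H.par_fixed hO (H.par_rat hO hs hss) h1 h2
  have mul : ∀ x ∈ C, ∀ y ∈ C, x * y ∈ C := by
    intro x hx y hy e he
    have hne : θ - σ θ ≠ 0 := sub_ne_zero.2 (Ne.symm hθσ)
    set δ := (θ - σ θ)⁻¹ with hδ
    have hδF : δ ∈ F₀ := F₀.inv_mem (F₀.sub_mem hθ (H.stable θ hθ))
    have hδσ : σ δ = -δ := by rw [hδ, map_inv₀, map_sub, u_inv hf, ← neg_sub, inv_neg]
    have p1 := hx _ (F₀.mul_mem (F₀.neg_mem (H.stable θ hθ)) hδF)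
    have p2 := hx δ hδF
    have q1 := hy e he
    have q2 := hy (e * θ) (F₀.mul_mem he hθ)
    convert H.par_add hO (H.par_mul_four hO hn hs hss p1 q1) (H.par_mul_four hO hn hs hss p2 q2) using 1
    simp only [map_mul, map_neg, hδσ, u_inv hf]
    rw [hδ]
    field_simp
    ring
  let K : Subfield F :=
    { carrier := C
      mul_mem' := fun {x y} hx hy => mul x hx y hy
      one_mem' := base 1 F₀.one_mem
      zero_mem' := base 0 F₀.zero_mem
      add_mem' := fun {x y} hx hy e he => by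
        have := H.par_add hO (hx e he) (hy e he)
        convert this using 1
        simp only [mul_add, map_add]; ring
      neg_mem' := fun {x} hx e he => by
        have := H.par_neg hO (hx e he)
        convert this using 1
        rw [mul_neg, map_neg]; ring
      inv_mem' := fun x hx => by
        have hpow : ∀ k : ℕ, x ^ k ∈ C := fun k => by
          induction k with
          | zero => rw [pow_zero]; exact base 1 F₀.one_mem
          | succ k ih => rw [pow_succ]; exact mul _ ih x hx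
        rcases eq_or_ne x 0 with rfl | hx0
        · rw [_root_.inv_zero]; exact base 0 F₀.zero_mem
        · have h1 : x ^ (Fintype.card F - 1) = 1 := FiniteField.pow_card_sub_one_eq_one x hx0
          have h2 := Fintype.one_lt_card (α := F)
          rw [show Fintype.card F - 1 = Fintype.card F - 2 + 1 by omega, pow_succ] at h1
          rw [← eq_inv_of_mul_eq_one_left h1]
          exact hpow _ }
  have haK : a / s ∈ K := fun e he => by
    obtain ⟨h1, h2⟩ := rfixed e he
    have := H.par_fixed hO ha h1 h2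
    convert this using 1
    rw [map_mul, map_div₀, ha.1, hss, neg_div_neg_eq]
    field_simp
  have hK : K = ⊤ := (H.simple K base).resolve_left fun e => haF (by
    rw [e] at haK
    simpa [hs0] using F₀.mul_mem haK hs)
  have := (show b / s ∈ K by rw [hK]; exact Subfield.mem_top _) l hl
  convert this using 1
  rw [map_mul, map_div₀, hb, hss, neg_div_neg_eq, ← add_mul, hl1, one_mul, mul_div_cancel₀ _ hs0]

variable (hP : ∀ b, σ b = -b → H.Par M b)
include hP

/-- All transvections lie in `M`. -/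
theorem utIn_of_par_four (hn : 4 ≤ Fintype.card ι) : ∀ x, f x x = 0 → UtIn H.herm M x := by
  have hf := H.herm
  intro x hxx a ha
  rcases eq_or_ne x 0 with rfl | hx0
  · convert M.one_mem
    exact gl_ext fun y => by rw [ut_mulVec hf hxx]; simp
  obtain ⟨e, he, hxe⟩ : ∃ e, H.Iso0 e ∧ f x e ≠ 0 := by
    by_contra hcon
    push Not at hcon
    obtain ⟨v, hv, -⟩ := H.isProj_id.exists_iso H (by omega)
    let D : AddSubgroup (ι → F) :=
      { carrier := {y | f x y = 0}
        add_mem' := fun {p q} hp hq => by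
          show f x (p + q) = 0
          rw [u_add_right hf, hp, hq, add_zero]
        zero_mem' := u_zero_right hf x
        neg_mem' := fun {p} hp => by
          show f x (-p) = 0
          rw [u_neg_right hf, hp, neg_zero] }
    refine hx0 (H.eq_zero_of fun z hz => u_symm_zero hf ?_)
    exact H.gen_near hv D (fun c _ => by
      show f x (c • v) = 0
      rw [u_smul_right hf, hcon v hv, mul_zero]) (fun w hw _ => hcon w hw) hz
  obtain ⟨z, hz, hzz, hze, -⟩ := H.partner he.1 he.2.1 he.2.2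
  let D : AddSubgroup (ι → F) :=
    { carrier := {d | ∃ t, EichOK hf e d t ∧ ue hf e d t ∈ M}
      add_mem' := fun {p q} ⟨t₁, h₁, m₁⟩ ⟨t₂, h₂, m₂⟩ =>
        ⟨_, h₁.add hf h₂, by rw [← ue_mul hf h₁ h₂]; exact M.mul_mem m₁ m₂⟩
      zero_mem' := by
        have h : EichOK hf e 0 0 :=
          ⟨he.2.2, u_zero_left hf e, by rw [u_zero_left hf, map_zero, add_zero, neg_zero]⟩
        refine ⟨0, h, ?_⟩
        convert M.one_mem
        exact gl_ext fun y => by rw [ue_mulVec hf h, u_zero_right hf]; simp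
      neg_mem' := fun {p} ⟨t, h, m⟩ => by
        have h' : EichOK hf e (-p) (σ t) := by
          refine ⟨h.1, by rw [u_neg_left hf, h.2.1, neg_zero], ?_⟩
          rw [u_inv hf, u_neg_left hf, u_neg_right hf]
          linear_combination h.2.2
        refine ⟨σ t, h', ?_⟩
        rw [show ue hf e (-p) (σ t) = (ue hf e p t)⁻¹ from
          eq_inv_of_mul_eq_one_left (gl_ext fun y => by
            rw [mul_mulVec, ue_mulVec hf h, ue_mulVec hf h']
            simp only [u_add_left hf, u_smul_left hf, u_neg_right hf, h.1, h.2.1,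
              u_symm_zero hf h.2.1, Units.val_one, one_mulVec]
            match_scalars <;>
              first
              | ring1
              | linear_combination (f y e) * h.2.2)]
        exact M.inv_mem m }
  have all : ∀ y, ∀ c : F, c • (y - f y e • z) ∈ D := by
    intro y
    have hy : y ∈ Submodule.span F (V : Set (ι → F)) := H.span ▸ Submodule.mem_top
    induction hy using Submodule.span_induction with
    | mem y hy =>
      intro c
      let D' : AddSubgroup (ι → F) :=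
        { carrier := {w | ∀ c : F, c • w ∈ D}
          add_mem' := fun {p q} hp hq c => by rw [smul_add]; exact D.add_mem (hp c) (hq c)
          zero_mem' := fun c => by rw [smul_zero]; exact D.zero_mem
          neg_mem' := fun {p} hp c => by rw [smul_neg]; exact D.neg_mem (hp c) }
      refine H.gen_perp (by omega) he D' (fun w hw hwe k => ?_)
        (V.sub_mem hy (H.smul _ (H.rat y hy e he.1) z hz))
        (by rw [u_sub_left hf, u_smul_left hf, hze, mul_one, sub_self]) c
      have h : EichOK hf e (k • w) 0 := by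
        refine ⟨he.2.2, by rw [u_smul_left hf, hwe, mul_zero], ?_⟩
        rw [map_zero, u_smul_left hf, u_smul_right hf, hw.2.2]; ring
      refine ⟨0, h, ?_⟩
      convert H.uh_all hO hP he hw.1 hw.2.2 (u_symm_zero hf hwe) k using 1
      refine gl_ext fun y => ?_
      rw [ue_mulVec hf h, uh_mulVec hf ⟨he.2.2, hw.2.2, u_symm_zero hf hwe⟩, u_smul_right hf]
      module
    | zero => intro c; simp [u_zero_left hf, D.zero_mem]
    | add p q _ _ hp hq =>
      intro c
      convert D.add_mem (hp c) (hq c) using 1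
      rw [u_add_left hf]; module
    | smul k p _ hp =>
      intro c
      convert hp (c * k) using 1
      rw [u_smul_left hf]; module
  set x' := (f x e)⁻¹ • x with hx'
  have x'e : f x' e = 1 := by rw [hx', u_smul_left hf, inv_mul_cancel₀ hxe]
  have x'x' : f x' x' = 0 := by rw [hx', u_smul_left hf, u_smul_right hf, hxx]; ring
  clear_value x'
  set d := x' - z with hd
  obtain ⟨t, ht, tM⟩ : d ∈ D := by simpa [x'e, hd] using all x' 1
  set δ := f z d - t with hδ
  have hδσ : σ δ = -δ := by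
    have h := ht.2.2
    simp only [hd, u_sub_left hf, u_sub_right hf, x'x', hzz] at h
    rw [hδ, hd, u_sub_right hf, hzz, sub_zero, map_sub, u_conj hf]
    linear_combination -h
  have gM : ut hf e δ * ue hf e d t ∈ M := M.mul_mem ((hP δ hδσ).2 e he.1 he.2.2) tM
  have gx : ((ut hf e δ * ue hf e d t : GL ι F) : Matrix ι ι F) *ᵥ z = x' := by
    rw [mul_mulVec, ue_mulVec hf ht, ut_mulVec hf he.2.2, u_add_left hf, u_add_left hf,
      u_smul_left hf, u_smul_left hf, hze, ht.2.1, he.2.2, hδ, hd]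
    module
  have hxz : x = f x e • x' := by rw [hx', smul_inv_smul₀ hxe]
  have := UtIn.conj hf hzz (fun l hl => (hP l hl).2 z hz hzz) gM (H.iso_of_mem hO gM)
  rw [gx] at this
  rw [hxz]
  exact (this.smul hf x'x' (f x e)) a ha

end HSub

end Cfsg.Agent.Symplectic
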