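import Cfsg.Agent.H12.SUFour.Sub.Rational
import Cfsg.Agent.S5658

/-!
Odd-index subfield subgroups of four-dimensional special unitary groups.
-/

set_option autoImplicit false
open Cfsg

namespace Cfsg.Agent.H12.SUFour.Sub

open scoped MatrixGroups Matrix
open Matrix Cfsg.Agent.H95 Cfsg.Agent.Symplectic Cfsg.Agent.S5650
open Cfsg.Agent.S5658 (fieldFacts)

theorem main {ι : Type} [Fintype ι] [DecidableEq ι] {F : Type*} [Field F] [Finite F]
    (hn : Fintype.card ι = 4) {σ : F ≃+* F} {f : (ι → F) → (ι → F) → F} {F₀ : Subfield F}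
    {P : GL ι F} (H : HSub σ f F₀ (V0 F₀ P)) (G : Subgroup (GL ι F))
    (hG : G = isoGrp f ⊓ Geo.specialLinear ι F)
    (hgen : ∀ M : Subgroup (GL ι F), (∀ v, f v v = 0 → UtIn H.herm M v) → G ≤ M)
    (hbig : ∃ b : F, σ b = -b ∧ b ∉ F₀) :
    Geo.IsMaximalIn G (Geo.subfieldSubgroup F₀ P ⊓ G) := by
  have hf := H.herm
  refine ⟨lt_of_le_of_ne inf_le_right fun hEq => ?_, fun M hSM hMG => ?_⟩
  · obtain ⟨b, hb, hbF⟩ := hbig
    obtain ⟨v, hv, -⟩ := H.isProj_id.exists_iso H (by omega)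
    obtain ⟨d, hd, -, dv', vd⟩ := H.partner hv.1 hv.2.1 hv.2.2
    have hmem : ut hf v b ∈ Geo.subfieldSubgroup F₀ P ⊓ G :=
      hEq.symm ▸ (hG ▸ ⟨ut_mem_iso hf hv.2.2 hb, ut_mem_sl hf v b⟩ : ut hf v b ∈ G)
    obtain ⟨c, hc, hcv⟩ := scalar_of_mem F₀ P hmem.1
    have h1 := hcv v hv.1
    rw [ut_mulVec hf hv.2.2, hv.2.2, mul_zero, zero_smul, add_zero] at h1
    have hcF : c⁻¹ ∈ F₀ := by
      have := H.rat _ h1 d hd
      rwa [u_smul_left hf, vd, mul_one] at this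
    have h2 := H.smul _ (F₀.inv_mem hcF) _ (hcv d hd)
    rw [inv_inv, smul_inv_smul₀ hc, ut_mulVec hf hv.2.2, dv', mul_one] at h2
    have h3 := H.rat _ ((V0 F₀ P).sub_mem h2 hd) d hd
    rw [add_sub_cancel_left, u_smul_left hf, vd, mul_one] at h3
    exact hbF h3
  by_cases hM : M ≤ Geo.subfieldSubgroup F₀ P ⊓ G
  · exact Or.inl (le_antisymm hM hSM)
  obtain ⟨g, hgM, hgS⟩ := SetLike.not_le_iff_exists.1 hM
  have hO : H.Over M := ⟨hG ▸ hMG, fun k hk hkV => hSM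
    ⟨mem_subfieldSubgroup_of F₀ P one_ne_zero fun v hv => by
      rw [_root_.inv_one, one_smul]; exact hkV v hv, hG ▸ hk⟩⟩
  obtain ⟨a, ha, haF⟩ : ∃ a, H.Par M a ∧ a ∉ F₀ := by
    by_contra hA
    push Not at hA
    exact H.exists_new_four hO hA (by omega) hgM fun ⟨c, hc, hcV⟩ =>
      hgS ⟨mem_subfieldSubgroup_of F₀ P (inv_ne_zero hc) (by simpa using hcV), hMG hgM⟩
  exact Or.inr (le_antisymm hMG (hgen M
    (H.utIn_of_par_four hO (fun b hb => H.par_all_four hO (by omega) ha haF hb) (by omega))))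

theorem isMaximalIn_subfield_four {F : Type*} [Field F] [Fintype F] (n q : ℕ) (hF : Fintype.card F = q ^ 2) (hn : n = 4) (F₀ : Subfield F) (r : ℕ) (hr : r.Prime) (hro : Odd r) (hcard : Fintype.card F = Nat.card F₀ ^ r) (P : Matrix.GeneralLinearGroup (Fin n) F) (hP : Cfsg.Geo.IsFormRationalStructure (Cfsg.hermForm n F q) F₀ 1 P) : Cfsg.Geo.IsMaximalIn (Cfsg.GU n F q ⊓ Cfsg.Geo.specialLinear (Fin n) F) (Cfsg.Geo.subfieldSubgroup F₀ P ⊓ (Cfsg.GU n F q ⊓ Cfsg.Geo.specialLinear (Fin n) F)) := by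
  obtain ⟨σ, hσ, hf⟩ := isUnitaryForm_hermForm (n := n) hF
  obtain ⟨h1, h2, h3, h4, h5, h6, h7, h8⟩ := fieldFacts hF F₀ hr hro hcard hσ
  have hspan : Submodule.span F (V0 F₀ P : Set (Fin n → F)) = ⊤ := by
    rw [eq_top_iff]
    intro v _
    have : v = ∑ j, (((P⁻¹ : GL (Fin n) F) : Matrix (Fin n) (Fin n) F) *ᵥ v) j •
        ((P : Matrix (Fin n) (Fin n) F) *ᵥ Pi.single j 1) := by
      simp only [← mulVec_smul]
      rw [← mulVec_sum, ← pi_eq_sum_univ', mulVec_inv_mulVec]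
    rw [this]
    exact Submodule.sum_mem _ fun j _ =>
      Submodule.smul_mem _ _ (Submodule.subset_span (col_mem F₀ P j))
  have H : HSub σ (Cfsg.hermForm n F q) F₀ (V0 F₀ P) :=
    { herm := hf
      smul := fun c hc v hv => mem_V0_smul F₀ P hc hv
      rat := fun u hu v hv => by
        have := hP _ _ hu hv
        rwa [mulVec_inv_mulVec, mulVec_inv_mulVec, one_mul] at this
      span := hspan
      stable := h1, tr := h2, skew := h3, norm := h4, quad := h5, sq := h6, simple := h7 }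
  exact main (by simpa using hn) H _ rfl (fun M h => su_le_of_ut hF (by omega) hσ hf h) h8

end Cfsg.Agent.H12.SUFour.Sub
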