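import Cfsg.Agent.H12.SUFour.Sub.Gen
import Cfsg.Agent.Linear.Dickson.Transvections
import Cfsg.Agent.Linear.TwoClasses

/-!
Two transvections generate a larger field of parameters; norms of the products with a moved rational point.
-/

set_option autoImplicit false

namespace Cfsg.Agent.Symplectic

open scoped MatrixGroups Matrix
open Matrix Cfsg.Agent.H95
open Cfsg.Agent.Linear (upSL upSL_coe)
open Cfsg.Agent.Linear.Dickson (loSL loSL_coe two_transvections)

variable {ι : Type} [Fintype ι] [DecidableEq ι] {F : Type*} [Field F] [Finite F]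
  {σ : F ≃+* F} {f : (ι → F) → (ι → F) → F} {F₀ : Subfield F} {V : AddSubgroup (ι → F)}
  {M : Subgroup (GL ι F)}

/-- The action of a two by two matrix on a hyperbolic plane. -/
def planeAct (f : (ι → F) → (ι → F) → F) (e₁ e₂ : ι → F) (ρ : F) (A : Matrix (Fin 2) (Fin 2) F) (x : ι → F) :
    ι → F :=
  x + (-(f x e₂ / ρ)) • ((A 0 0 - 1) • e₁ + A 1 0 • e₂) + (f x e₁ / ρ) • (A 0 1 • e₁ + (A 1 1 - 1) • e₂)

theorem planeAct_mul (hf : Geo.IsUnitaryForm σ f) {e₁ e₂ : ι → F} {ρ : F} (h1 : f e₁ e₁ = 0) (h2 : f e₂ e₂ = 0)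
    (h21 : f e₂ e₁ = ρ) (hρ : σ ρ = -ρ) (hρ0 : ρ ≠ 0) (A B : Matrix (Fin 2) (Fin 2) F) (x : ι → F) :
    planeAct f e₁ e₂ ρ A (planeAct f e₁ e₂ ρ B x) = planeAct f e₁ e₂ ρ (A * B) x := by
  have h12 : f e₁ e₂ = -ρ := by rw [← u_conj hf, h21, hρ]
  simp only [planeAct, u_add_left hf, u_smul_left hf, h1, h2, h12, h21, Matrix.mul_apply, Fin.sum_univ_two]
  match_scalars <;> field_simp <;> ring

namespace HSub

variable (H : HSub σ f F₀ V) (hO : H.Over M)
include H hO

/-- The square of the product of a moved rational point with a rational one is rational. -/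
theorem norm_rat_odd (hn : 4 ≤ Fintype.card ι) (h2 : (2 : F) ≠ 0) (hA : ∀ a, H.Par M a → a ∈ F₀) {h : GL ι F}
    (hh : h ∈ M) {v u : ι → F} (hv : H.Iso0 v) (hu : H.Iso0 u) :
    f ((h : Matrix ι ι F) *ᵥ v) u * σ (f ((h : Matrix ι ι F) *ᵥ v) u) ∈ F₀ := by
  classical
  have hf := H.herm
  have hhi := H.iso_of_mem hO hh
  set β := f ((h : Matrix ι ι F) *ᵥ v) u with hβ
  rcases eq_or_ne β 0 with hβ0 | hβ0
  · rw [hβ0, zero_mul]; exact F₀.zero_mem
  obtain ⟨s, hs, hs0, hss⟩ := H.skew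
  set lam := s * s * (β * σ β) with hlamd
  by_contra hnot
  have hlamF : lam ∉ F₀ := fun hm => hnot (by
    have := F₀.div_mem hm (F₀.mul_mem hs hs)
    rwa [hlamd, mul_div_cancel_left₀ _ (mul_ne_zero hs0 hs0)] at this)
  have hσβ : σ β ≠ 0 := (map_ne_zero_iff σ σ.injective).2 hβ0
  have hlam0 : lam ≠ 0 := mul_ne_zero (mul_ne_zero hs0 hs0) (mul_ne_zero hβ0 hσβ)
  set w := (h : Matrix ι ι F) *ᵥ v with hw
  have hww : f w w = 0 := by rw [hw, mem_isoGrp.1 hhi, hv.2.2]
  obtain ⟨e₂, he₂⟩ : ∃ e : ι → F, e = (s * σ β) • w := ⟨_, rfl⟩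
  obtain ⟨ρ, hρd⟩ : ∃ ρ : F, ρ = s * (β * σ β) := ⟨_, rfl⟩
  have hρ0 : ρ ≠ 0 := hρd ▸ mul_ne_zero hs0 (mul_ne_zero hβ0 hσβ)
  have hρ : σ ρ = -ρ := by rw [hρd, map_mul, map_mul, u_inv hf, hss]; ring
  have h21 : f e₂ u = ρ := by rw [he₂, u_smul_left hf, ← hβ, hρd]; ring
  have h22 : f e₂ e₂ = 0 := by rw [he₂, u_smul_left hf, u_smul_right hf, hww]; ring
  have huu := hu.2.2
  -- the matrices realised in `M`
  let K := Subfield.closure ({lam} : Set F)
  letI : Fintype K := Fintype.ofFinite K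
  let act : Matrix (Fin 2) (Fin 2) K → (ι → F) → ι → F := fun A => planeAct f u e₂ ρ (A.map Subtype.val)
  have hact : ∀ A B x, act A (act B x) = act (A * B) x := fun A B x => by
    simp only [act]
    rw [planeAct_mul hf huu h22 h21 hρ hρ0]
    congr 1
  have hact1 : ∀ x, act 1 x = x := fun x => by
    have e : ((1 : Matrix (Fin 2) (Fin 2) K).map Subtype.val) = (1 : Matrix (Fin 2) (Fin 2) F) :=
      Matrix.map_one _ rfl rfl
    simp [act, planeAct, e]
  let T : Subgroup (Matrix.SpecialLinearGroup (Fin 2) K) :=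
    { carrier := {A | ∃ k ∈ M, ∀ x, (k : Matrix ι ι F) *ᵥ x = act A x}
      one_mem' := ⟨1, M.one_mem, fun x => by simp [hact1]⟩
      mul_mem' := fun {A B} ⟨k, hk, hkx⟩ ⟨l, hl, hlx⟩ =>
        ⟨k * l, M.mul_mem hk hl, fun x => by rw [mul_mulVec, hlx, hkx, hact, Matrix.SpecialLinearGroup.coe_mul]⟩
      inv_mem' := fun {A} ⟨k, hk, hkx⟩ => ⟨k⁻¹, M.inv_mem hk, fun x => by
        have e : (k : Matrix ι ι F) *ᵥ act (A⁻¹ : Matrix.SpecialLinearGroup (Fin 2) K) x = x := by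
          rw [hkx, hact, ← Matrix.SpecialLinearGroup.coe_mul, mul_inv_cancel, Matrix.SpecialLinearGroup.coe_one,
            hact1]
        conv_lhs => rw [← e]
        rw [inv_mulVec_mulVec]⟩ }
  have hS := (H.par_rat hO hs hss)
  have hlo : loSL (1 : K) ∈ T := by
    refine ⟨_, conj_ut hf hhi hv.2.2 s ▸ M.mul_mem (M.mul_mem hh (hS.2 v hv.1 hv.2.2)) (M.inv_mem hh), fun x => ?_⟩
    simp only [act, planeAct, loSL_coe]
    simp [ut_mulVec hf hww, he₂, u_smul_right hf, hρd, hss, u_inv hf, ← hw, smul_smul]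
    field_simp
    module
  obtain ⟨lam', hlam'⟩ : ∃ l : K, (l : F) = lam := ⟨⟨lam, Subfield.subset_closure rfl⟩, rfl⟩
  have hup : upSL lam' ∈ T := by
    refine ⟨_, hS.2 u hu.1 huu, fun x => ?_⟩
    simp only [act, planeAct, upSL_coe]
    simp [ut_mulVec hf huu, hlam', hlamd, hρd, smul_smul]
    field_simp
  have hgen : Subfield.closure ({lam'} : Set K) = ⊤ := by
    refine eq_top_iff.2 fun x _ => ?_
    have hx : (x : F) ∈ (Subfield.closure ({lam'} : Set K)).map K.subtype := by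
      rw [RingHom.map_field_closure, Set.image_singleton]
      simp [K, hlam']
    obtain ⟨y, hy, hyx⟩ := hx
    rwa [← Subtype.ext hyx]
  have h2K : (2 : K) ≠ 0 := fun e => h2 (congrArg Subtype.val e)
  have hlam'0 : lam' ≠ 0 := fun e => hlam0 (by rw [← hlam', e]; rfl)
  rcases two_transvections h2K hlam'0 hgen with ⟨htop, -⟩ | ⟨-, hsq, -⟩
  · have : upSL (1 : K) ∈ T := by
      have hle : Subgroup.closure ({loSL 1, upSL lam'} : Set (Matrix.SpecialLinearGroup (Fin 2) K)) ≤ T := by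
        rw [Subgroup.closure_le]
        rintro _ (rfl | rfl)
        exacts [hlo, hup]
      exact hle (htop ▸ Subgroup.mem_top _)
    obtain ⟨k, hk, hkx⟩ := this
    have hρs : σ ρ⁻¹ = -ρ⁻¹ := by rw [map_inv₀, hρ, inv_neg]
    have hk' : k = ut hf u ρ⁻¹ := gl_ext fun x => by
      rw [hkx, ut_mulVec hf huu]
      simp only [act, planeAct, upSL_coe]
      simp [smul_smul]
      field_simp
    have hpar := H.par_of_one_four hO hn hu hρs (hk' ▸ hk)
    have hm := F₀.inv_mem (hA _ hpar)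
    rw [inv_inv, hρd] at hm
    exact hlamF (by rw [hlamd, mul_assoc]; exact F₀.mul_mem hs hm)
  · exact hlamF (H.sq lam (by
      have := congrArg Subtype.val hsq
      rw [SubmonoidClass.coe_pow, Subfield.coe_neg, Subfield.coe_one, hlam'] at this
      rw [this]; exact F₀.neg_mem F₀.one_mem))

end HSub

end Cfsg.Agent.Symplectic
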