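import Cfsg.Agent.H12.SUFour.Sub.Norms
import Cfsg.Agent.H58.SUSmall.SubfieldSix

/-!
Subfield structures in dimension four: an element outside the stabiliser yields a new parameter.
-/

set_option autoImplicit false

namespace Cfsg.Agent.Symplectic

open scoped MatrixGroups Matrix
open Matrix Cfsg.Agent.H95

variable {ι : Type} [Fintype ι] [DecidableEq ι] {F : Type*} [Field F]
  {σ : F ≃+* F} {f : (ι → F) → (ι → F) → F} {F₀ : Subfield F} {V : AddSubgroup (ι → F)}
  {M : Subgroup (GL ι F)}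

namespace HSub

variable (H : HSub σ f F₀ V)
include H

/-- Rational norms of products give rational ratios. -/
theorem ratio_of_norm {w u : ι → F}
    (N : ∀ {e : ι → F}, e ∈ V → f e e = 0 → f e u = 0 → f w e * σ (f w e) ∈ F₀) {e e₂ : ι → F}
    (he : e ∈ V) (hee : f e e = 0) (heu : f e u = 0) (he₂ : e₂ ∈ V) (hee₂ : f e₂ e₂ = 0)
    (heu₂ : f e₂ u = 0) (hne : f w e ≠ 0) : f w e₂ / f w e ∈ F₀ := by
  have hf := H.herm
  set b := f w e with hb
  set b₂ := f w e₂ with hb₂
  obtain ⟨t, htF, ht0, ht⟩ : ∃ t ∈ F₀, t ≠ 0 ∧ σ (σ t * f e e₂) = -(σ t * f e e₂) := by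
    by_cases h0 : f e e₂ = 0
    · exact ⟨1, F₀.one_mem, one_ne_zero, by rw [h0, mul_zero, map_zero, neg_zero]⟩
    obtain ⟨s, hs, hs0, hss⟩ := H.skew
    refine ⟨σ (s / f e e₂), H.stable _ (F₀.div_mem hs (H.rat e he e₂ he₂)), ?_, ?_⟩
    · exact fun h1 => div_ne_zero hs0 h0 ((map_eq_zero_iff σ σ.injective).1 h1)
    · rw [u_inv hf, div_mul_cancel₀ _ h0, hss]
  rw [map_mul, u_inv hf, u_conj hf] at ht
  have h3 : f (e + t • e₂) (e + t • e₂) = 0 := by
    simp only [u_add_left hf, u_add_right hf, u_smul_left hf, u_smul_right hf, hee, hee₂]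
    linear_combination ht
  have N3 := N (V.add_mem he (H.smul t htF e₂ he₂)) h3
    (by rw [u_add_left hf, u_smul_left hf, heu, heu₂]; ring)
  rw [u_add_right hf, u_smul_right hf, ← hb, ← hb₂, map_add, map_mul, u_inv hf] at N3
  have N1 := N he hee heu
  have N2 := N he₂ hee₂ heu₂
  rw [← hb] at N1
  rw [← hb₂] at N2
  set z := t * b * σ b₂ with hz
  have hzmem : z ∈ F₀ := by
    refine H.quad z ?_ ?_
    · have := F₀.sub_mem (F₀.sub_mem N3 N1) (F₀.mul_mem (F₀.mul_mem htF (H.stable t htF)) N2)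
      convert this using 1
      rw [hz, map_mul, map_mul, u_inv hf]
      ring
    · have := F₀.mul_mem (F₀.mul_mem htF (H.stable t htF)) (F₀.mul_mem N1 N2)
      convert this using 1
      rw [hz, map_mul, map_mul, u_inv hf]
      ring
  have := F₀.div_mem (H.stable _ (F₀.div_mem hzmem htF)) N1
  convert this using 1
  rw [hz, mul_assoc, mul_div_cancel_left₀ _ ht0, map_mul, u_inv hf, mul_comm (σ b),
    mul_div_mul_right _ _ fun h => hne ((map_eq_zero_iff σ σ.injective).1 h)]

variable (hO : H.Over M) (hA : ∀ a, H.Par M a → a ∈ F₀)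
include hO hA

/-- In odd characteristic, without new parameters all moved points are rational. -/
theorem ratPt_odd [Finite F] (hn : 4 ≤ Fintype.card ι) (h2 : (2 : F) ≠ 0) {h : GL ι F} (hh : h ∈ M)
    {v : ι → F} (hv : H.Iso0 v) : H.RatPt ((h : Matrix ι ι F) *ᵥ v) := by
  have hf := H.herm
  set w := (h : Matrix ι ι F) *ᵥ v with hw
  have N : ∀ {e : ι → F}, e ∈ V → f e e = 0 → f e 0 = 0 → f w e * σ (f w e) ∈ F₀ := by
    intro e he hee _
    rcases eq_or_ne e 0 with rfl | he0
    · rw [u_zero_right hf, zero_mul]; exact F₀.zero_mem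
    · exact H.norm_rat_odd hO hn h2 hA hh hv ⟨he, he0, hee⟩
  obtain ⟨v₀, hv₀, -⟩ := H.isProj_id.exists_iso H (by omega)
  obtain ⟨e, he, hne⟩ : ∃ e, H.Iso0 e ∧ f w e ≠ 0 := by
    by_contra hcon
    push Not at hcon
    let D : AddSubgroup (ι → F) :=
      { carrier := {y | f w y = 0}
        add_mem' := fun {p q} hp hq => by
          show f w (p + q) = 0
          rw [u_add_right hf, hp, hq, add_zero]
        zero_mem' := u_zero_right hf w
        neg_mem' := fun {p} hp => by
          show f w (-p) = 0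
          rw [u_neg_right hf, hp, neg_zero] }
    have hw0 : w = 0 := H.eq_zero_of fun z hz => u_symm_zero hf
      (H.gen_near hv₀ D (fun c _ => by
        show f w (c • v₀) = 0
        rw [u_smul_right hf, hcon v₀ hv₀, mul_zero]) (fun y hy _ => hcon y hy) hz)
    exact hv.2.1 (by rw [← inv_mulVec_mulVec h v, ← hw, hw0, mulVec_zero])
  refine ⟨(f w e)⁻¹, inv_ne_zero hne, H.mem_of_dual fun z hz => ?_⟩
  rw [u_smul_left hf]
  let D : AddSubgroup (ι → F) :=
    { carrier := {y | (f w e)⁻¹ * f w y ∈ F₀}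
      add_mem' := fun {p q} hp hq => by
        show _ * f w (p + q) ∈ F₀
        rw [u_add_right hf, mul_add]; exact F₀.add_mem hp hq
      zero_mem' := by
        show _ * f w 0 ∈ F₀
        rw [u_zero_right hf, mul_zero]; exact F₀.zero_mem
      neg_mem' := fun {p} hp => by
        show _ * f w (-p) ∈ F₀
        rw [u_neg_right hf, mul_neg]; exact F₀.neg_mem hp }
  have key : ∀ y, y ∈ V → f y y = 0 → y ∈ D := fun y hy hyy => by
    show (f w e)⁻¹ * f w y ∈ F₀
    rw [← div_eq_inv_mul]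
    exact H.ratio_of_norm N he.1 he.2.2 (u_zero_right hf e) hy hyy (u_zero_right hf y) hne
  exact H.gen_near hv₀ D (fun c hc => key _ (H.smul c hc _ hv₀.1)
    (by rw [u_smul_left hf, u_smul_right hf, hv₀.2.2, mul_zero, mul_zero])) (fun y hy _ => key y hy.1 hy.2.2) hz

/-- Norms of products with a rational vector orthogonal to a rational point orthogonal to a moved one. -/
theorem norm_rat_four (hn : 4 ≤ Fintype.card ι) {h : GL ι F} (hh : h ∈ M) {v u e : ι → F}
    (hv : H.Iso0 v) (hu : H.Iso0 u) (hwu : f ((h : Matrix ι ι F) *ᵥ v) u = 0) (he : e ∈ V)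
    (hee : f e e = 0) (heu : f e u = 0) :
    f ((h : Matrix ι ι F) *ᵥ v) e * σ (f ((h : Matrix ι ι F) *ᵥ v) e) ∈ F₀ := by
  obtain ⟨s, hs, hs0, hss⟩ := H.skew
  have := F₀.div_mem (hA _ (H.par_of_orth_four hO hn hh hv hu hwu he hee heu (H.par_rat hO hs hss))) hs
  rwa [mul_div_cancel_left₀ _ hs0] at this

/-- If no new parameters occur, then moved points orthogonal to rational ones are rational. -/
theorem orth_rational_four (hn : 4 ≤ Fintype.card ι) {h : GL ι F} (hh : h ∈ M) {v u : ι → F}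
    (hv : H.Iso0 v) (hu : H.Iso0 u) (hwu : f ((h : Matrix ι ι F) *ᵥ v) u = 0) :
    H.RatPt ((h : Matrix ι ι F) *ᵥ v) := by
  have hf := H.herm
  have hhi := H.iso_of_mem hO hh
  have N := fun {u e : ι → F} (hu : H.Iso0 u) (hwu : f ((h : Matrix ι ι F) *ᵥ v) u = 0) (he : e ∈ V)
      (hee : f e e = 0) (heu : f e u = 0) => H.norm_rat_four hO hA hn hh hv hu hwu he hee heu
  have ratio := fun {u e e₂ : ι → F} (hu : H.Iso0 u)
      (hwu : f ((h : Matrix ι ι F) *ᵥ v) u = 0) (he : e ∈ V) (hee : f e e = 0) (heu : f e u = 0)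
      (he₂ : e₂ ∈ V) (hee₂ : f e₂ e₂ = 0) (heu₂ : f e₂ u = 0) =>
    H.ratio_of_norm (N hu hwu) he hee heu he₂ hee₂ heu₂
  set w := (h : Matrix ι ι F) *ᵥ v with hw
  have hww : f w w = 0 := by rw [hw, mem_isoGrp.1 hhi, hv.2.2]
  obtain ⟨c, hc, hcv⟩ : ∃ c : F, c ≠ 0 ∧
      ∀ y ∈ V, f y u = 0 → f (c • w) y ∈ F₀ := by
    obtain ⟨c, hc, hcs⟩ : ∃ c : F, c ≠ 0 ∧
        ∀ y, H.Iso0 y → f y u = 0 → c * f w y ∈ F₀ := by
      by_cases h0 : ∃ e, H.Iso0 e ∧ f e u = 0 ∧ f w e ≠ 0
      · obtain ⟨e, he, heu, hne⟩ := h0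
        refine ⟨(f w e)⁻¹, inv_ne_zero hne, fun y hy hyu => ?_⟩
        rw [← div_eq_inv_mul]
        exact ratio hu hwu he.1 he.2.2 heu hy.1 hy.2.2 hyu hne
      · push Not at h0
        exact ⟨1, one_ne_zero, fun y hy hyu => by
          rw [h0 y hy hyu, mul_zero]; exact F₀.zero_mem⟩
    refine ⟨c, hc, fun y hy hyu => ?_⟩
    let D : AddSubgroup (ι → F) :=
      { carrier := {y | c * f w y ∈ F₀}
        add_mem' := fun {p q} hp hq => by
          show c * f w (p + q) ∈ F₀
          rw [u_add_right hf, mul_add]; exact F₀.add_mem hp hq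
        zero_mem' := by
          show c * f w 0 ∈ F₀
          rw [u_zero_right hf, mul_zero]; exact F₀.zero_mem
        neg_mem' := fun {p} hp => by
          show c * f w (-p) ∈ F₀
          rw [u_neg_right hf, mul_neg]; exact F₀.neg_mem hp }
    rw [u_smul_left hf]
    exact H.gen_perp (by omega) hu D hcs hy hyu
  set w' := c • w with hw'
  have w'w' : f w' w' = 0 := by rw [hw', u_smul_left hf, u_smul_right hf, hww]; ring
  have w'u : f w' u = 0 := by rw [hw', u_smul_left hf, hwu, mul_zero]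
  obtain ⟨a, ha, haa, hau, hua⟩ := H.partner hu.1 hu.2.1 hu.2.2
  have hP := H.isProj_pair hu.1 ha hu.2.2 haa hau
  set P := H.projPair LinearMap.id u a with hPdef
  have Pu : ∀ x, f (P x) u = 0 := fun x => (H.projPair_perp _ hu.2.2 haa hau x).1
  have Pa : ∀ x, f (P x) a = 0 := fun x => (H.projPair_perp _ hu.2.2 haa hau x).2
  set α := f w' a with hα
  set y := P w' with hy
  have yV : y ∈ V := H.mem_of_dual fun z hz => by
    rw [hy, hP.2.1, ← hP.left H]; exact hcv _ (hP.1 z hz) (Pu z)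
  have hsplit : w' = y + α • u := by
    rw [hy, hPdef, projPair_apply, LinearMap.id_apply, w'u, hα, zero_smul, sub_zero,
      sub_add_cancel]
  have yu : f y u = 0 := Pu w'
  have ya : f y a = 0 := Pa w'
  have fin : α ∈ F₀ → H.RatPt w := fun hαF => ⟨c, hc, by
    rw [← hw', hsplit]; exact V.add_mem yV (H.smul α hαF u hu.1)⟩
  rcases eq_or_ne y 0 with hy0 | hy0
  · rw [hy0, zero_add] at hsplit
    have hα0 : α ≠ 0 := by
      intro h0
      rw [h0, zero_smul, hw', smul_eq_zero] at hsplit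
      have := hsplit.resolve_left hc
      exact hv.2.1 (by rw [← inv_mulVec_mulVec h v, ← hw, this, mulVec_zero])
    exact ⟨α⁻¹ * c, mul_ne_zero (inv_ne_zero hα0) hc,
      by rw [mul_smul, ← hw', hsplit, inv_smul_smul₀ hα0]; exact hu.1⟩
  have yy : f y y = 0 := by
    rw [hsplit] at w'w'
    simp only [u_add_left hf, u_add_right hf, u_smul_left hf, u_smul_right hf, yu,
      u_symm_zero hf yu, hu.2.2, mul_zero, add_zero] at w'w'
    exact w'w'
  have Py : P y = y := hP.2.2.1 w'
  obtain ⟨d, hd, -, dy, -⟩ := H.partner yV hy0 yy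
  obtain ⟨e, he, hee, hey, Pe⟩ : ∃ e ∈ V, f e e = 0 ∧ f e y = 1 ∧ P e = e := by
    have d1 : f (P d) y = 1 := by
      have := hP.left H d y
      rw [Py] at this
      rw [← this, dy]
    have d2 : f y (P d) = 1 := by rw [← u_conj hf, d1, map_one]
    obtain ⟨t, ht, ht1⟩ := H.trace_rat
      (F₀.neg_mem (H.rat _ (hP.1 d hd) _ (hP.1 d hd))) (H.neg_self_fix (P d))
    refine ⟨P d + t • y, V.add_mem (hP.1 d hd) (H.smul t ht y yV), ?_, ?_, ?_⟩
    · simp only [u_add_left hf, u_add_right hf, u_smul_left hf, u_smul_right hf, d1, d2, yy]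
      linear_combination ht1
    · rw [u_add_left hf, u_smul_left hf, d1, yy]; ring
    · rw [map_add, map_smul, hP.2.2.1, Py]
  have eu : f e u = 0 := by rw [← Pe]; exact Pu e
  have ea : f e a = 0 := by rw [← Pe]; exact Pa e
  have ye : f y e = 1 := by rw [← u_conj hf, hey, map_one]
  have w'e : f w' e = 1 := by
    rw [hsplit, u_add_left hf, u_smul_left hf, u_symm_zero hf eu, ye]; ring
  have w'y : f w' y = 0 := by
    rw [hsplit, u_add_left hf, u_smul_left hf, u_symm_zero hf yu, yy]; ring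
  have wy : f w y = 0 := by
    rw [hw', u_smul_left hf, mul_eq_zero] at w'y; exact w'y.resolve_left hc
  have hec : f w e = c⁻¹ := by
    rw [hw', u_smul_left hf] at w'e; exact eq_inv_of_mul_eq_one_right w'e
  have hk : c * σ c ∈ F₀ := by
    have := F₀.inv_mem (N hu hwu he hee eu)
    rwa [hec, map_inv₀, _root_.mul_inv_rev, inv_inv, inv_inv, mul_comm] at this
  have N' : ∀ {u e : ι → F}, H.Iso0 u → f w u = 0 → e ∈ V → f e e = 0 → f e u = 0 →
      f w' e * σ (f w' e) ∈ F₀ := fun {u e} hu hwu he hee heu => by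
    rw [hw', u_smul_left hf, map_mul, mul_mul_mul_comm]
    exact F₀.mul_mem hk (N hu hwu he hee heu)
  have hne0 : y - u ≠ 0 := fun h0 => by
    rw [sub_eq_zero] at h0
    rw [h0, eu] at hey
    exact zero_ne_one hey
  have n1 : α * σ α ∈ F₀ := N' ⟨yV, hy0, yy⟩ wy ha haa (u_symm_zero hf ya)
  have n2 : (1 + α) * σ (1 + α) ∈ F₀ := by
    have := N' (u := y - u) (e := e + a) ⟨V.sub_mem yV hu.1, hne0, by
        simp only [u_sub_left hf, u_sub_right hf, yy, hu.2.2, yu, u_symm_zero hf yu, sub_zero]⟩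
      (by rw [u_sub_right hf, wy, hwu, sub_zero]) (V.add_mem he ha)
      (by simp only [u_add_left hf, u_add_right hf, hee, haa, ea, u_symm_zero hf ea, add_zero])
      (by simp only [u_sub_right hf, u_add_left hf, hey, eu, hau, u_symm_zero hf ya]; ring)
    rwa [u_add_right hf, w'e, ← hα] at this
  refine fin (H.quad α ?_ n1)
  have := F₀.sub_mem (F₀.sub_mem n2 n1) F₀.one_mem
  rw [map_add, map_one] at this
  convert this using 1
  ring

theorem rational_all_four (hn : 4 ≤ Fintype.card ι) {h : GL ι F} (hh : h ∈ M) {v v' : ι → F}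
    (hv : H.Iso0 v) (hv' : H.Iso0 v') (hr : H.RatPt ((h : Matrix ι ι F) *ᵥ v)) :
    H.RatPt ((h : Matrix ι ι F) *ᵥ v') := by
  have hf := H.herm
  have hhi := H.iso_of_mem hO hh
  have step : ∀ {a b : ι → F}, H.Iso0 a → H.Iso0 b → f b a = 0 →
      H.RatPt ((h : Matrix ι ι F) *ᵥ a) → H.RatPt ((h : Matrix ι ι F) *ᵥ b) := by
    intro a b ha hb hba ⟨c, hc, hca⟩
    refine H.orth_rational_four hO hA hn hh hb (u := c • ((h : Matrix ι ι F) *ᵥ a))
      ⟨hca, smul_ne_zero hc fun h0 => ha.2.1 ?_, ?_⟩ ?_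
    · rw [← inv_mulVec_mulVec h a, h0, mulVec_zero]
    · rw [u_smul_left hf, u_smul_right hf, mem_isoGrp.1 hhi, ha.2.2]; ring
    · rw [u_smul_right hf, mem_isoGrp.1 hhi, hba, mul_zero]
  by_cases h0 : f v' v = 0
  · exact step hv hv' h0 hr
  set d := (f v' v)⁻¹ • v' with hd
  have dd : f d d = 0 := by rw [hd, u_smul_left hf, u_smul_right hf, hv'.2.2]; ring
  have dv' : f d v = 1 := by rw [hd, u_smul_left hf, inv_mul_cancel₀ h0]
  have hP := H.isProj_pair hv.1 (H.smul _ (F₀.inv_mem (H.rat v' hv'.1 v hv.1)) v' hv'.1) hv.2.2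
    dd dv'
  obtain ⟨u, hu, Pu⟩ := hP.exists_iso H (by omega)
  obtain ⟨uv, ud⟩ := H.projPair_perp LinearMap.id hv.2.2 dd dv' u
  rw [Pu] at uv ud
  have uv' : f v' u = 0 := by
    rw [hd, u_smul_right hf, mul_eq_zero] at ud
    exact u_symm_zero hf
      (ud.resolve_left fun h1 => inv_ne_zero h0 ((map_eq_zero_iff σ σ.injective).1 h1))
  exact step hu hv' uv' (step hv hu uv hr)

/-- Either all of `M` stabilises `V` up to scalars or there is a new parameter. -/
theorem exists_new_four [Finite F] (hn : 4 ≤ Fintype.card ι) {g : GL ι F} (hg : g ∈ M)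
    (hgS : ¬ ∃ c : F, c ≠ 0 ∧ ∀ v ∈ V, c • ((g : Matrix ι ι F) *ᵥ v) ∈ V) : False := by
  have hf := H.herm
  by_cases h2 : (2 : F) = 0
  swap
  · exact hgS (H.exists_scalar_four hO hn hg fun v hv => H.ratPt_odd hO hA hn h2 hg hv)
  have no : ∀ h ∈ M, (¬ ∃ c : F, c ≠ 0 ∧ ∀ v ∈ V, c • ((h : Matrix ι ι F) *ᵥ v) ∈ V) →
      ∀ u v, H.Iso0 u → H.Iso0 v → f ((h : Matrix ι ι F) *ᵥ v) u ≠ 0 := by
    intro h hh hS u v hu hv h0
    exact hS (H.exists_scalar_four hO hn hh fun v' hv' =>
      H.rational_all_four hO hA hn hh hv hv' (H.orth_rational_four hO hA hn hh hv hu h0))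
  have toStab : ∀ z ∈ M, z * z = 1 →
      (∃ c : F, c ≠ 0 ∧ ∀ v ∈ V, c • ((z : Matrix ι ι F) *ᵥ v) ∈ V) → H.Stab z :=
    fun z _ hz ⟨c, hc, hcV⟩ => H.stab_of_scalar hn hz hc hcV
  have hgi := H.iso_of_mem hO hg
  obtain ⟨e, he, -⟩ := H.isProj_id.exists_iso H (by omega)
  obtain ⟨w, d, hw, hd, we, de, dw⟩ := H.exists_indep he (by omega)
  obtain ⟨s, hs, hs0, hss⟩ := H.skew
  have hsq : ∀ v, f v v = 0 → ut hf v s * ut hf v s = 1 := fun v hv => by
    rw [ut_add hf hv, show s + s = 0 by linear_combination s * h2, ut_zero hf v hv]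
  set R := ut hf e s with hR
  set t := ut hf e s * ut hf w s with ht
  have RM : R ∈ M := H.ut_rat hO he.1 he.2.2 hs hss
  have tM : t ∈ M := M.mul_mem RM (H.ut_rat hO hw.1 hw.2.2 hs hss)
  have tV : H.Stab t := fun v hv => by
    rw [ht, mul_mulVec, ut_mulVec hf he.2.2, ut_mulVec hf hw.2.2]
    have := V.add_mem hv (H.smul _ (F₀.mul_mem hs (H.rat v hv w hw.1)) w hw.1)
    exact V.add_mem this (H.smul _ (F₀.mul_mem hs (H.rat _ this e he.1)) e he.1)
  have hcomm : Commute (ut hf e s) (ut hf w s) := gl_ext fun x => by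
    simp only [mul_mulVec, ut_mulVec hf he.2.2, ut_mulVec hf hw.2.2, u_add_left hf,
      u_smul_left hf, we, u_symm_zero hf we]
    module
  have tsq : t * t = 1 := by
    rw [ht, hcomm.symm.mul_mul_mul_comm, hsq e he.2.2, hsq w hw.2.2, one_mul]
  have ew : ∀ c : F, e ≠ c • w := fun c hc => by
    have := congrArg (fun v => f d v) hc
    simp only [u_smul_right hf, dw, mul_one, de] at this
    exact he.2.1 (by rw [hc, (map_eq_zero_iff σ σ.injective).1 this.symm, zero_smul])
  have t2 : 2 ≤ resDim t := by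
    obtain ⟨e', he', -, e'e, -⟩ := H.partner he.1 he.2.1 he.2.2
    have m1 := mem_resSp t d
    have m2 := mem_resSp t e'
    rw [ht, mul_mulVec, ut_mulVec hf he.2.2, ut_mulVec hf hw.2.2, u_add_left hf, u_smul_left hf,
      we, de, dw] at m1
    rw [ht, mul_mulVec, ut_mulVec hf he.2.2, ut_mulVec hf hw.2.2, u_add_left hf, u_smul_left hf,
      we, e'e] at m2
    have hwm : w ∈ resSp t := by
      have := (resSp t).smul_mem s⁻¹ m1
      convert this using 1
      match_scalars <;> field_simp <;> ring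
    have hem : e ∈ resSp t := by
      have := (resSp t).smul_mem s⁻¹ ((resSp t).sub_mem m2
        ((resSp t).smul_mem (s * f e' w) hwm))
      convert this using 1
      match_scalars <;> field_simp <;> ring
    have hli : LinearIndependent F ![e, w] := by
      rw [LinearIndependent.pair_iff]
      intro a b hab
      rcases eq_or_ne a 0 with rfl | ha
      · rw [zero_smul, zero_add, smul_eq_zero] at hab
        exact ⟨rfl, hab.resolve_right hw.2.1⟩
      · refine absurd ?_ (ew (-a⁻¹ * b))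
        rw [mul_smul, neg_smul, eq_neg_iff_add_eq_zero, ← inv_smul_smul₀ ha e, ← smul_add, hab,
          smul_zero]
    have := Submodule.finrank_mono (show Submodule.span F (Set.range ![e, w]) ≤ resSp t by
      rw [Submodule.span_le]; rintro _ ⟨i, rfl⟩; fin_cases i <;> assumption)
    rw [finrank_span_eq_card hli, Fintype.card_fin] at this
    exact this
  have R1 : resDim R ≤ 1 := by
    refine (Submodule.finrank_mono (resSp_le (W := F ∙ e) fun x => ?_)).trans
      ((finrank_span_le_card ({e} : Set (ι → F))).trans (by simp))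
    rw [hR, ut_mulVec hf he.2.2, add_sub_cancel_left]
    exact Submodule.mem_span_singleton.2 ⟨_, rfl⟩
  set R' := g * R * g⁻¹ with hR'
  have R'M : R' ∈ M := M.mul_mem (M.mul_mem hg RM) (M.inv_mem hg)
  have R'sq : R' * R' = 1 := by
    calc R' * R' = g * (R * R) * g⁻¹ := by rw [hR']; group
      _ = 1 := by rw [hR, hsq e he.2.2]; group
  obtain ⟨z, hz, hz1, hzt, hzR, -⟩ := exists_invol_commute (t := (⟨t, tM⟩ : M))
    (t' := ⟨R', R'M⟩) (Subtype.ext tsq) (Subtype.ext R'sq) fun k hk => by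
      have := congrArg (fun k : M => resDim (k : GL ι F)) hk
      simp only [Subgroup.coe_mul, Subgroup.coe_inv, hR', resDim_conj] at this
      omega
  have zt : (z : GL ι F) * t = t * z := congrArg Subtype.val hzt.eq
  have zR : (z : GL ι F) * R' = R' * z := congrArg Subtype.val hzR.eq
  have hz' : (z : GL ι F) * z = 1 := congrArg Subtype.val hz
  have tne : t ≠ 1 := fun e => by
    rw [e] at t2
    have : resSp (1 : GL ι F) = ⊥ := le_bot_iff.1 (resSp_le fun x => by simp)
    rw [resDim, this, finrank_bot] at t2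
    omega
  have zS : H.Stab z := toStab _ z.2 hz' <| by
    by_contra hS
    refine H.no_invol_two h2 (H.iso_of_mem hO z.2) (no _ z.2 hS) tsq (H.iso_of_mem hO tM) tV
      ?_ tne
    rwa [mul_assoc, ← zt, inv_mul_cancel_left]
  set z' := g⁻¹ * (z : GL ι F) * g with hz'def
  have z'M : z' ∈ M := M.mul_mem (M.mul_mem (M.inv_mem hg) z.2) hg
  have z'sq : z' * z' = 1 := by
    calc z' * z' = g⁻¹ * ((z : GL ι F) * z) * g := by rw [hz'def]; group
      _ = 1 := by rw [hz']; group
  have z'R : z' * R = R * z' := by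
    calc z' * R = g⁻¹ * ((z : GL ι F) * R') * g := by rw [hz'def, hR']; group
      _ = g⁻¹ * (R' * z) * g := by rw [zR]
      _ = R * z' := by rw [hz'def, hR']; group
  have RV : H.Stab R := fun v hv => by
    rw [hR, ut_mulVec hf he.2.2]
    exact V.add_mem hv (H.smul _ (F₀.mul_mem hs (H.rat v hv e he.1)) e he.1)
  have z'S : H.Stab z' := toStab _ z'M z'sq <| by
    by_contra hS
    refine H.no_invol_two h2 (H.iso_of_mem hO z'M) (no _ z'M hS) (hsq e he.2.2)
      (H.iso_of_mem hO RM) RV (z := R) ?_ ?_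
    · rwa [mul_assoc, ← z'R, inv_mul_cancel_left]
    · intro e1
      have := congrArg (fun k : GL ι F => (k : Matrix ι ι F) *ᵥ d) e1
      obtain ⟨e', he', -, e'e, -⟩ := H.partner he.1 he.2.1 he.2.2
      have h3 := congrArg (fun k : GL ι F => (k : Matrix ι ι F) *ᵥ e') e1
      simp only [hR, ut_mulVec hf he.2.2, e'e, mul_one, Units.val_one, one_mulVec,
        add_eq_left, smul_eq_zero] at h3
      exact h3.elim hs0 he.2.1
  exact H.no_invol_two h2 hgi (no g hg hgS) hz' (H.iso_of_mem hO z.2) zS z'S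
    fun e => hz1 (Subtype.ext e)

end HSub

end Cfsg.Agent.Symplectic
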